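import Groth.Agent.FGA29.IntNumPushSheaf
import Groth.Agent.Snapper75.Push
import Groth.Agent.Snapper75.Top
import Groth.Agent.Snapper75.Coeff
import Groth.Agent.SchBasics.Reduced
import Groth.Agent.Cyc90.Dev.ProperField

/-! Intersection numbers of pullbacks. -/

set_option autoImplicit false
set_option backward.isDefEq.respectTransparency.types false
set_option linter.style.haveILetI false
universe u

open CategoryTheory CategoryTheory.Limits AlgebraicGeometry TopologicalSpace Opposite

noncomputable section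

namespace Groth.Agent.PullDeg75

open FGA29 (dl deltaCompat_tdegN)
open scoped FGA29

variable (k : Type u) [Field k]

theorem chi_congr_modules {X : Scheme.{u}} [X.Over (Spec (CommRingCat.of k))] {r : ℕ}
    (L L' : Fin r → X.Modules) (h : ∀ i, Nonempty (L i ≅ L' i)) (F : X.Modules) :
    Snapper75.chi k L F = Snapper75.chi k L' F := by
  funext n
  refine congrArg (fun z : ℤ => (z : ℚ)) (FGA29.euler_cl k ?_)
  rw [FGA29.cl_tensorPows, FGA29.cl_tensorPows]
  exact congrArg _ (Finset.prod_congr rfl fun i _ =>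
    congrArg (· ^ n i) (Quot.sound (h i)))

variable {X : Scheme.{u}} [X.Over (Spec (CommRingCat.of k))] [IsProper (X ↘ Spec (CommRingCat.of k))]
  {Y : Scheme.{u}} [Y.Over (Spec (CommRingCat.of k))] [IsProper (Y ↘ Spec (CommRingCat.of k))]

/-- Intersection numbers of pullbacks against the structure sheaf are those against the direct image. -/
theorem alt_chi_pullback (g : Y ⟶ X) (hg : g ≫ (X ↘ Spec (CommRingCat.of k)) = Y ↘ Spec (CommRingCat.of k))
    {r : ℕ} {L : Fin r → X.Modules} (hL : ∀ i, PicF.IsInvertible (L i)) {F : Y.Modules} (hF : Coh.IsCoh F)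
    (hdim : topologicalKrullDim (CohB1.support F) ≤ (r : WithBot ℕ∞)) :
    Snapper75.alt r (Snapper75.chi k (fun i => (Scheme.Modules.pullback g).obj (L i)) F) =
      Snapper75.alt r (Snapper75.chi k L ((Coh.push g).obj F)) := by
  have hδ := deltaCompat_tdegN (X := Y) k
  have hY : Cyc.IsSetup Y (dl k Y) := Cyc90.isSetup_of_field (Y ↘ Spec (CommRingCat.of k)) _ hδ
  have h := congrArg (fun z : ℤ => (z : ℚ)) (FGA29.intE_pullback_eq_push k g hg hL
    (FGA29.cohLe_of_dim_le k hδ hY hF hdim))
  simp only [FGA29.intE_eq_alt] at h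
  exact mul_left_cancel₀ (pow_ne_zero _ (by norm_num : (-1 : ℚ) ≠ 0)) h

omit [IsProper (X ↘ Spec (CommRingCat.of k))] in
theorem dl_eq_iff [LocallyOfFiniteType (X ↘ Spec (CommRingCat.of k))] (x : X) (d : ℕ) :
    dl k X x = (d : ℤ) ↔ topologicalKrullDim (closure ({x} : Set X)) = (d : WithBot ℕ∞) := by
  rw [WC97.topologicalKrullDim_closure (X ↘ Spec (CommRingCat.of k))]
  constructor
  · intro h
    rw [show WC97.tdegN (X ↘ Spec (CommRingCat.of k)) x = d from Int.natCast_inj.1 h]
  · intro h
    exact congrArg (fun m : ℕ => (m : ℤ)) (by exact_mod_cast h)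

/-- The length of the direct image of the structure sheaf at the image of the generic point. -/
theorem len_push_unit [IsIntegral Y] (g : Y ⟶ X)
    (hg : g ≫ (X ↘ Spec (CommRingCat.of k)) = Y ↘ Spec (CommRingCat.of k)) {d : ℕ}
    (hY : topologicalKrullDim Y ≤ (d : WithBot ℕ∞))
    (hη : topologicalKrullDim (closure ({genericPoint Y} : Set Y)) = (d : WithBot ℕ∞))
    (hy : topologicalKrullDim (closure ({g (genericPoint Y)} : Set X)) = (d : WithBot ℕ∞)) :
    Snapper75.len ((Coh.push g).obj (Coh.structureModule Y)) (g (genericPoint Y)) =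
      (g.residueDegree (genericPoint Y) : ℚ) := by
  classical
  have := FGA29.isProper_of_over k g hg
  have := Crv77.isNoetherian_of_proper k Y
  have := Crv77.isNoetherian_of_proper k X
  have hδX := deltaCompat_tdegN (X := X) k
  have hδY := deltaCompat_tdegN (X := Y) k
  have hX : Cyc.IsSetup X (dl k X) := Cyc90.isSetup_of_field (X ↘ Spec (CommRingCat.of k)) _ hδX
  have hY' : Cyc.IsSetup Y (dl k Y) := Cyc90.isSetup_of_field (Y ↘ Spec (CommRingCat.of k)) _ hδY
  have hO : Coh.IsCoh (Coh.structureModule Y) := Crv77.isCoh_structureModule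
  let η := genericPoint Y
  have hcoh := FGA29.cohLe_of_dim_le k hδY hY' hO ((topologicalKrullDim_subspace_le Y _).trans hY)
  have hsheaf : ∀ x, Cyc.sheafFun (dl k Y) (d : ℤ) (Coh.structureModule Y) x = FGA29.ptFun η 1 x := by
    intro x
    by_cases hx : x = η
    · subst hx
      rw [FGA29.ptFun_self, Cyc.sheafFun, if_pos ((dl_eq_iff k η d).2 hη),
        (QC70.unitStalkEquiv (genericPoint Y)).symm.length_eq]
      rw [show Module.length (Y.presheaf.stalk η) (Y.presheaf.stalk η) = 1 from
        Module.length_eq_one (R := Y.functionField) (M := Y.functionField)]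
      rfl
    · rw [FGA29.ptFun_ne hx, Cyc.sheafFun, if_neg]
      intro h
      exact hx (Snapper75.eq_of_dim_eq ((dl_eq_iff k x d).1 h)
        (le_trans (topologicalKrullDim_subspace_le Y _) hY) (genericPoint_specializes x)).symm
  let α := FGA29.ptCycle η
  have key := congrFun (FGA29.map_sheafFun g hY'.2.2 hX.2.2 (FGA29.deltaCompat_map k g hg) (d : ℤ)
    (Coh.structureModule Y) hO hcoh.2 α (funext fun x => (hsheaf x).symm)) (g η)
  rw [Cyc90.map_apply_eq, Cyc.sheafFun, if_pos ((dl_eq_iff k (g η) d).2 hy),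
    finsum_mem_eq_sum_of_inter_support_eq (t := {η}) _ ?_, Finset.sum_singleton] at key
  · rw [if_pos (by rw [(dl_eq_iff k η d).2 hη, (dl_eq_iff k (g η) d).2 hy]),
      show α η = 1 from FGA29.ptFun_self η 1, one_mul] at key
    rw [Int.natCast_inj] at key
    exact (congrArg (fun m : ℕ => (m : ℚ)) key).symm
  · ext x
    simp only [Set.mem_inter_iff, Finset.coe_singleton, Set.mem_singleton_iff, Set.mem_preimage,
      Function.mem_support]
    refine ⟨fun ⟨_, h⟩ => ⟨?_, h⟩, fun ⟨h, h'⟩ => ⟨by rw [h], h'⟩⟩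
    by_contra hx
    exact left_ne_zero_of_mul h (FGA29.ptFun_ne hx 1)

/-- The intersection number of pullbacks on an integral scheme. -/
theorem alt_chi_push_unit [IsIntegral Y] (g : Y ⟶ X)
    (hg : g ≫ (X ↘ Spec (CommRingCat.of k)) = Y ↘ Spec (CommRingCat.of k)) {d : ℕ}
    (hY : topologicalKrullDim Y = (d : WithBot ℕ∞))
    {L : Fin d → X.Modules} (hL : ∀ i, PicF.IsInvertible (L i)) :
    Snapper75.alt d (Snapper75.chi k L ((Coh.push g).obj (Coh.structureModule Y))) =
      (g.residueDegree (genericPoint Y) : ℚ) *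
        Snapper75.alt d (Snapper75.chi k L (ClSub.quotMod g.ker)) := by
  classical
  have := FGA29.isProper_of_over k g hg
  have := Crv77.isNoetherian_of_proper k Y
  have := Crv77.isNoetherian_of_proper k X
  have hO : Coh.IsCoh (Coh.structureModule Y) := Crv77.isCoh_structureModule
  have := hO.1; have := hO.2
  let η := genericPoint Y
  let y := g η
  let P := (Coh.push g).obj (Coh.structureModule Y)
  have hP : Coh.IsCoh P := FGA29.isCoh_push_of_isProper g _ hO
  have hcl : closure (Set.range g) = closure ({y} : Set X) := by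
    refine subset_antisymm (isClosed_closure.closure_subset_iff.2 ?_)
      (closure_mono (Set.singleton_subset_iff.2 (Set.mem_range_self η)))
    rintro _ ⟨z, rfl⟩
    exact ((genericPoint_specializes z).map g.continuous).mem_closure
  have hker : g.ker = Scheme.IdealSheafData.vanishingIdeal
      (⟨closure ({y} : Set X), isClosed_closure⟩ : Closeds X) := by
    rw [SchBasics.ker_eq_vanishingIdeal g]
    congr 1
    exact Closeds.ext hcl
  have hsupp : CohB1.support P ⊆ closure ({y} : Set X) := fun x hx => by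
    rw [← hcl]
    by_contra hn
    exact hx (FGA29.subsingleton_stalk_push g _ x fun z hz => absurd (subset_closure (s := Set.range g) ⟨z, hz⟩) hn)
  have hη : topologicalKrullDim (closure ({η} : Set Y)) = (d : WithBot ℕ∞) := by
    rw [(genericPoint_spec Y).def, ← hY]
    exact IsHomeomorph.topologicalKrullDim_eq _ (Homeomorph.Set.univ Y).isHomeomorph
  have hyd : topologicalKrullDim (closure ({y} : Set X)) ≤ (d : WithBot ℕ∞) := by
    obtain ⟨n, -, hn⟩ := FGA29.deltaCompat_map k g hg η
    have h1 := (dl_eq_iff k η d).2 hη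
    have h2 : dl k X y ≤ (d : ℤ) := by
      rw [← h1, hn]
      exact le_add_of_nonneg_right (Int.natCast_nonneg n)
    have h3 : WC97.tdegN (X ↘ Spec (CommRingCat.of k)) y ≤ d := by exact_mod_cast h2
    rw [WC97.topologicalKrullDim_closure (X ↘ Spec (CommRingCat.of k))]
    exact_mod_cast h3
  rcases hyd.lt_or_eq with hlt | heq
  · rw [Snapper75.alt_eq_zero (Snapper75.chi_mem_polySub k hL d P hP
      (lt_of_le_of_lt (LC17.dim_mono hsupp) hlt)), hker,
      Snapper75.alt_eq_zero (Snapper75.chi_mem_polySub k hL d _ (Crv77.isCoh_quotMod _)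
        (lt_of_le_of_lt (LC17.dim_mono (Snapper75.support_ptMod y)) hlt)), mul_zero]
  · have hT : ∀ x : X, x ∈ ({y} : Finset X) ↔
        x ∈ closure ({y} : Set X) ∧ topologicalKrullDim (closure ({x} : Set X)) = (d : WithBot ℕ∞) := by
      intro x
      rw [Finset.mem_singleton]
      refine ⟨fun h => ?_, fun ⟨h, h'⟩ =>
        (Snapper75.eq_of_dim_eq h' heq.le (specializes_iff_mem_closure.2 h)).symm⟩
      subst h
      exact ⟨subset_closure rfl, heq⟩
    have h := Snapper75.alt_eq_zero (Snapper75.defect_mem_polySub k hL isClosed_closure heq.le hT hP hsupp)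
    rw [Snapper75.defect, Finset.sum_singleton, map_sub, map_smul, smul_eq_mul, sub_eq_zero] at h
    rw [h, hker, len_push_unit k g hg hY.le hη heq]

/-- Intersection numbers of pullbacks. -/
theorem coeff_pullback (f : Y ⟶ X) (hf : f ≫ (X ↘ Spec (CommRingCat.of k)) = Y ↘ Spec (CommRingCat.of k))
    (Z : Y.IdealSheafData) [IsIntegral Z.subscheme] (d : ℕ)
    (hZ : topologicalKrullDim (Z.support : Set Y) = d)
    (L : Fin d → X.Modules) (hL : ∀ i, PicF.IsInvertible (L i)) (PY PX : MvPolynomial (Fin d) ℚ)
    (hPY : ∀ n : Fin d → ℕ, Snapper75.chi k (fun i => (Scheme.Modules.pullback f).obj (L i)) (ClSub.quotMod Z) n =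
      MvPolynomial.eval (fun i => (n i : ℚ)) PY)
    (hPX : ∀ n : Fin d → ℕ, Snapper75.chi k L (ClSub.quotMod (Z.subschemeι ≫ f).ker) n =
      MvPolynomial.eval (fun i => (n i : ℚ)) PX) :
    PY.coeff (Snapper75.oneExp d) = ((Z.subschemeι ≫ f).residueDegree (genericPoint Z.subscheme) : ℚ) *
      PX.coeff (Snapper75.oneExp d) := by
  letI : Z.subscheme.Over (Spec (CommRingCat.of k)) := ⟨Z.subschemeι ≫ (Y ↘ Spec (CommRingCat.of k))⟩
  have : IsProper (Z.subscheme ↘ Spec (CommRingCat.of k)) :=
    inferInstanceAs (IsProper (Z.subschemeι ≫ (Y ↘ Spec (CommRingCat.of k))))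
  have := Crv77.isNoetherian_of_proper k Y
  have := Crv77.isNoetherian_of_proper k X
  have := Crv77.isNoetherian_of_proper k Z.subscheme
  let g := Z.subschemeι ≫ f
  have hg : g ≫ (X ↘ Spec (CommRingCat.of k)) = Z.subscheme ↘ Spec (CommRingCat.of k) := by
    rw [show g = Z.subschemeι ≫ f from rfl, Category.assoc, hf]
    rfl
  have hO : Coh.IsCoh (Coh.structureModule Z.subscheme) := Crv77.isCoh_structureModule
  have hfL : ∀ i, PicF.IsInvertible ((Scheme.Modules.pullback f).obj (L i)) :=
    fun i => Amp73.isInvertible_pullback f (hL i)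
  have hdimZ : topologicalKrullDim Z.subscheme = (d : WithBot ℕ∞) := by
    rw [← hZ, ← Z.range_subschemeι]
    exact IsHomeomorph.topologicalKrullDim_eq _
      Z.subschemeι.isClosedEmbedding.isEmbedding.toHomeomorph.isHomeomorph
  have hY1 : topologicalKrullDim (CohB1.support (ClSub.quotMod Z)) ≤ (d : WithBot ℕ∞) :=
    le_trans (LC17.dim_mono (Snapper75.support_quotMod_subset Z)) hZ.le
  rw [Snapper75.coeff_eq_alt k hfL (Crv77.isCoh_quotMod Z) hY1 hPY]
  have hX1 : topologicalKrullDim (CohB1.support (ClSub.quotMod g.ker)) ≤ (d : WithBot ℕ∞) := by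
    refine le_trans (LC17.dim_mono (Snapper75.support_quotMod_subset _)) ?_
    rw [SchBasics.ker_eq_vanishingIdeal g, Scheme.IdealSheafData.coe_support_vanishingIdeal]
    have hgp : IsProper g := FGA29.isProper_of_over k g hg
    have hcl : closure (Set.range g) = closure ({g (genericPoint Z.subscheme)} : Set X) := by
      refine subset_antisymm (isClosed_closure.closure_subset_iff.2 ?_) (closure_mono (by
        rintro _ rfl; exact ⟨_, rfl⟩))
      rintro _ ⟨z, rfl⟩
      exact ((genericPoint_specializes z).map g.continuous).mem_closure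
    show topologicalKrullDim (closure (Set.range g)) ≤ _
    rw [hcl, WC97.topologicalKrullDim_closure (X ↘ Spec (CommRingCat.of k))]
    obtain ⟨n, -, hn⟩ := FGA29.deltaCompat_map k g hg (genericPoint Z.subscheme)
    have h1 : dl k Z.subscheme (genericPoint Z.subscheme) = (d : ℤ) := by
      rw [dl_eq_iff, (genericPoint_spec Z.subscheme).def, ← hdimZ]
      exact IsHomeomorph.topologicalKrullDim_eq _ (Homeomorph.Set.univ _).isHomeomorph
    have h2 : dl k X (g (genericPoint Z.subscheme)) ≤ (d : ℤ) := by omega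
    have h3 : WC97.tdegN (X ↘ Spec (CommRingCat.of k)) (g (genericPoint Z.subscheme)) ≤ d := by
      exact_mod_cast h2
    exact_mod_cast h3
  rw [Snapper75.coeff_eq_alt k hL (Crv77.isCoh_quotMod _) hX1 hPX,
    show Snapper75.chi k (fun i => (Scheme.Modules.pullback f).obj (L i)) (ClSub.quotMod Z) =
      Snapper75.chi k (fun i => (Scheme.Modules.pullback Z.subschemeι).obj
        ((Scheme.Modules.pullback f).obj (L i))) (Coh.structureModule Z.subscheme) from
      Snapper75.chi_push Z.subschemeι k rfl hO hfL,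
    chi_congr_modules k
      (fun i => (Scheme.Modules.pullback Z.subschemeι).obj ((Scheme.Modules.pullback f).obj (L i)))
      (fun i => (Scheme.Modules.pullback g).obj (L i))
      (fun i => ⟨(Scheme.Modules.pullbackComp Z.subschemeι f).app (L i)⟩),
    alt_chi_pullback k g hg hL hO ((topologicalKrullDim_subspace_le _ _).trans hdimZ.le),
    alt_chi_push_unit k g hg hdimZ hL]

end Groth.Agent.PullDeg75

end
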